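import Cfsg.Agent.FixBN.Split
import Cfsg.Agent.H716.SplitAb
import Cfsg.Agent.H706.PB.Defs

/-!
# `NoOut r S` in the own characteristic (S4884, helper539)

An automorphism of order prime to `p` which centralizes the unipotent subgroup `U` of a split `(B, N)`-pair of
characteristic `p` is trivial: it fixes the minimal parabolic subgroups, it commutes with the transitive action of
the `p`-group `U` on each Bruhat cell `BnB / B`, so it fixes every coset of `B`.

* `auto_eq_one` : the theorem for split `(B, N)`-pairs;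
* `noOut_of_split`, `noOut_own` : `NoOut p S` for every finite simple group of Lie type of characteristic `p`.
-/

set_option autoImplicit false

open Subgroup

namespace Cfsg.Agent.H539.OC

open Cfsg Cfsg.Agent.Schreier.BNSch Cfsg.Agent.FixBN

variable {K : Type*} [Group K] {P : Cfsg.BNPair K} {p : ℕ} {U : Subgroup K}

/-- `P_s ∩ P_t = B` -/
theorem inf_parabolic {s t : K} (hs : s ∈ P.S) (ht : t ∈ P.S) (hst : s ≠ t) {x : K} (h1 : x ∈ P.parabolic {s})
    (h2 : x ∈ P.parabolic {t}) : x ∈ P.B := by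
  obtain ⟨J, hJ, e⟩ := Cfsg.Agent.S0311.result P (P.parabolic {s} ⊓ P.parabolic {t})
    (le_inf (B_le_parabolic P _) (B_le_parabolic P _))
  have h3 : P.parabolic J ≤ P.parabolic {s} := by rw [← e]; exact inf_le_left
  have h4 : P.parabolic J ≤ P.parabolic {t} := by rw [← e]; exact inf_le_right
  rw [parabolic_le_iff P hJ (Set.singleton_subset_iff.2 hs)] at h3
  rw [parabolic_le_iff P hJ (Set.singleton_subset_iff.2 ht)] at h4
  have h5 : J = ∅ := by
    rw [Set.eq_empty_iff_forall_notMem]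
    intro j hj
    have h6 := Set.mem_singleton_iff.1 (h3 hj)
    have h7 := Set.mem_singleton_iff.1 (h4 hj)
    exact hst (h6.symm.trans h7)
  have h8 : x ∈ P.parabolic {s} ⊓ P.parabolic {t} := mem_inf.2 ⟨h1, h2⟩
  rw [e, h5, parabolic_empty] at h8
  exact h8

/-- the subgroups `V_s`, `V_t` of two different nodes are different -/
theorem node_ne [Finite K] (h : Split P p U) {s t : K} (hs : s ∈ P.S) (ht : t ∈ P.S) (hst : s ≠ t) {V : Subgroup K}
    (h1 : Node P U s V) (h2 : Node P U t V) : False := by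
  obtain ⟨u, hu, huV⟩ := h1.ne
  -- `s u t ∈ B s t B`
  have hcase := P.mul_mem_union s hs t (P.subset ht) u (h.le hu)
  rcases hcase with hc | hc
  · rw [DoubleCoset.mem_doubleCoset] at hc
    obtain ⟨b, hb, b', hb', e⟩ := hc
    obtain ⟨v, hv, τ, hτ, rfl⟩ := h.cover' hb
    -- `s⁻¹ v⁻¹ s u = (s⁻¹ τ s) t b' t⁻¹`
    have h3 : s⁻¹ * τ * s ∈ P.B := by
      have := P.conj_mem s⁻¹ (P.N.inv_mem (P.subset hs)) τ (mem_inf.2 ⟨hτ.1, hτ.2⟩)
      rwa [inv_inv] at this
    have e2 : s⁻¹ * v⁻¹ * s * u = (s⁻¹ * τ * s) * (t * b' * t⁻¹) := by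
      have e1 : s * u = (v * τ * (s * t) * b') * t⁻¹ := by rw [← e]; group
      calc s⁻¹ * v⁻¹ * s * u = s⁻¹ * v⁻¹ * (s * u) := by group
        _ = s⁻¹ * v⁻¹ * ((v * τ * (s * t) * b') * t⁻¹) := by rw [e1]
        _ = _ := by group
    have htP : t * b' * t⁻¹ ∈ P.parabolic {t} :=
      mul_mem (mul_mem (mem_parabolic_self P t) (B_le_parabolic P _ hb')) (inv_mem (mem_parabolic_self P t))
    have h4 : s⁻¹ * v⁻¹ * s * u ∈ P.parabolic {t} := by
      rw [e2]
      exact mul_mem (B_le_parabolic P _ h3) htP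
    have h5 : s⁻¹ * v⁻¹ * s * u ∈ P.parabolic {s} :=
      mul_mem (mul_mem (mul_mem (inv_mem (mem_parabolic_self P s)) (B_le_parabolic P _ (h.le (inv_mem hv))))
        (mem_parabolic_self P s)) (B_le_parabolic P _ (h.le hu))
    have h6 := inf_parabolic hs ht hst h5 h4
    have h7 : s⁻¹ * v⁻¹ * s ∈ P.B := by
      have := mul_mem h6 (inv_mem (h.le hu))
      rwa [mul_assoc _ u, mul_inv_cancel, mul_one] at this
    have h8 : v⁻¹ ∈ V := h1.stab _ (inv_mem hv) h7
    have h9 : s⁻¹ * v⁻¹ * s ∈ V := h1.conj_s _ h8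
    -- now `u` is in `V`
    have h10 : t⁻¹ * ((s⁻¹ * v⁻¹ * s) * u) * t ∈ P.B := by
      have e3 : t⁻¹ * (s⁻¹ * v⁻¹ * s * u) * t = (t⁻¹ * (s⁻¹ * τ * s) * t) * b' := by
        rw [e2]; group
      rw [e3]
      refine mul_mem ?_ hb'
      have h11 : s⁻¹ * τ * s ∈ P.N := mul_mem (mul_mem (inv_mem (P.subset hs)) hτ.2) (P.subset hs)
      have := P.conj_mem t⁻¹ (P.N.inv_mem (P.subset ht)) _ (mem_inf.2 ⟨h3, h11⟩)
      rwa [inv_inv] at this
    have h12 := h2.stab _ (mul_mem (h1.le h9) hu) h10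
    apply huV
    have := mul_mem (inv_mem h9) h12
    rwa [inv_mul_cancel_left] at this
  · rw [DoubleCoset.mem_doubleCoset] at hc
    obtain ⟨b, hb, b', hb', e⟩ := hc
    have h3 : s ∈ P.parabolic {t} := by
      have e1 : s = b * t * b' * t⁻¹ * u⁻¹ := by rw [← e]; group
      rw [e1]
      exact mul_mem (mul_mem (mul_mem (mul_mem (B_le_parabolic P _ hb) (mem_parabolic_self P t))
        (B_le_parabolic P _ hb')) (inv_mem (mem_parabolic_self P t))) (B_le_parabolic P _ (inv_mem (h.le hu)))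
    exact not_mem_B P hs (inf_parabolic hs ht hst (mem_parabolic_self P s) h3)

section auto

variable [Finite K] [hp : Fact p.Prime] (h : Split P p U) {a : MulAut K} (ha : ¬ p ∣ orderOf a) (hU : ∀ u ∈ U, a u = u)

include h hU

theorem apply_mem_B {b : K} (hb : b ∈ P.B) : a b ∈ P.B := by
  rw [← h.normalizer_eq] at hb ⊢
  rw [Subgroup.mem_normalizer_iff] at hb ⊢
  intro u
  constructor
  · intro hu
    have h1 := (hb u).1 hu
    have h2 : a (b * u * b⁻¹) = a b * u * (a b)⁻¹ := by rw [map_mul, map_mul, map_inv, hU u hu]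
    rw [← h2, hU _ h1]
    exact h1
  · intro hu
    -- `(a b) u (a b)⁻¹ = v ∈ U`, so `b⁻¹ v b ∈ U` and `a (b⁻¹ v b) = u`
    set v := a b * u * (a b)⁻¹ with hv
    have h1 : b⁻¹ * v * b ∈ U := by
      rw [hb]
      have e : b * (b⁻¹ * v * b) * b⁻¹ = v := by group
      rw [e]
      exact hu
    have h2 : a (b⁻¹ * v * b) = u := by
      rw [map_mul, map_mul, map_inv, hU v hu, hv]
      group
    rw [hU _ h1] at h2
    rw [← h2]
    exact h1

theorem map_B : P.B.map a.toMonoidHom = P.B := by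
  refine Subgroup.eq_of_le_of_card_ge ?_ ?_
  · rintro _ ⟨b, hb, rfl⟩
    exact apply_mem_B h hU hb
  · exact le_of_eq (Nat.card_congr (P.B.equivMapOfInjective a.toMonoidHom a.injective).toEquiv)

theorem apply_mem_B_iff {b : K} : a b ∈ P.B ↔ b ∈ P.B := by
  constructor
  · intro hb
    rw [← map_B h hU] at hb
    obtain ⟨c, hc, e⟩ := hb
    have : c = b := a.injective e
    rwa [← this]
  · exact apply_mem_B h hU

/-- the minimal parabolic subgroups are invariant -/
theorem map_parabolic {s : K} (hs : s ∈ P.S) : (P.parabolic {s}).map a.toMonoidHom = P.parabolic {s} := by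
  obtain ⟨t, ht, e⟩ := exists_map_eq P a (map_B h hU) hs
  by_cases hst : s = t
  · rw [e, hst]
  exfalso
  obtain ⟨V, hV⟩ := h.node s hs
  obtain ⟨V', hV'⟩ := h.node t ht
  -- `V ≤ V'`
  have h1 : V ≤ V' := by
    intro v hv
    refine hV'.stab v (hV.le hv) ?_
    have h2 : t ∈ (P.parabolic {s}).map a.toMonoidHom := by rw [e]; exact mem_parabolic_self P t
    obtain ⟨g, hg, hgt⟩ := h2
    have h3 := hV.conj_mem hg hv
    have h4 : t⁻¹ * v * t = g⁻¹ * v * g := by
      have h5 : a (g⁻¹ * v * g) = t⁻¹ * v * t := by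
        rw [map_mul, map_mul, map_inv, hU v (hV.le hv)]
        have : a g = t := hgt
        rw [this]
      rw [← h5, hU _ (hV.le h3)]
    rw [h4]
    exact h.le (hV.le h3)
  have h2 : V' ≤ V := by
    intro v hv
    refine hV.stab v (hV'.le hv) ?_
    have h2 : a s ∈ P.parabolic {t} := by
      rw [← e]
      exact Subgroup.mem_map_of_mem _ (mem_parabolic_self P s)
    have h3 := hV'.conj_mem h2 hv
    have h5 : a (s⁻¹ * v * s) = (a s)⁻¹ * v * a s := by
      rw [map_mul, map_mul, map_inv, hU v (hV'.le hv)]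
    rw [← apply_mem_B_iff h hU, h5]
    exact h.le (hV'.le h3)
  have h3 : V = V' := le_antisymm h1 h2
  subst h3
  exact node_ne h hs ht hst hV hV'

include ha

/-- **the cell argument**: if `a (n B) ⊆ B n B` then `a` fixes `n B` -/
theorem fix_of_cell {n : K} (hn : n ∈ P.N) (hc : ∃ b ∈ P.B, ∃ b' ∈ P.B, a n = b * n * b') : n⁻¹ * a n ∈ P.B := by
  obtain ⟨b, hb, b', hb', e⟩ := hc
  obtain ⟨u, hu, t, ht, rfl⟩ := h.cover' hb
  -- `a n ∈ u n B`
  have e1 : ∃ c ∈ P.B, a n = u * n * c := by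
    refine ⟨n⁻¹ * t * n * b', mul_mem ?_ hb', ?_⟩
    · have := P.conj_mem n⁻¹ (P.N.inv_mem hn) t ht
      rwa [inv_inv] at this
    · rw [e]; group
  obtain ⟨c, hc, e1⟩ := e1
  -- powers
  have key : ∀ k : ℕ, ∃ d ∈ P.B, (a ^ k) n = u ^ k * n * d := by
    intro k
    induction k with
    | zero => exact ⟨1, one_mem _, by rw [pow_zero, pow_zero, one_mul, mul_one]; rfl⟩
    | succ k ih =>
      obtain ⟨d, hd, e2⟩ := ih
      refine ⟨c * a d, mul_mem hc (apply_mem_B h hU hd), ?_⟩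
      rw [pow_succ', MulAut.mul_apply, e2, map_mul, map_mul, e1, map_pow, hU u hu, pow_succ]
      group
  obtain ⟨d, hd, e2⟩ := key (orderOf a)
  rw [pow_orderOf_eq_one, MulAut.one_apply] at e2
  -- `u ^ m ∈ n B n⁻¹`
  let S : Subgroup K := P.B.map (MulAut.conj n).toMonoidHom
  have h1 : u ^ orderOf a ∈ S := by
    refine ⟨d⁻¹, inv_mem hd, ?_⟩
    show n * d⁻¹ * n⁻¹ = _
    have e3 : n * d⁻¹ = u ^ orderOf a * n := by
      rw [mul_inv_eq_iff_eq_mul]
      exact e2
    rw [e3]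
    group
  obtain ⟨k, hk⟩ := h.isP ⟨u, hu⟩
  have hk : u ^ p ^ k = 1 := congrArg Subtype.val hk
  have h2 : u ∈ S := by
    have hcop : (orderOf a).Coprime (p ^ k) :=
      Nat.Coprime.pow_right _ ((Nat.Prime.coprime_iff_not_dvd hp.1).2 ha).symm
    have h3 : u ∈ Subgroup.zpowers (u ^ orderOf a) := by
      have hcop' : (orderOf u).Coprime (orderOf a) := (hcop.coprime_dvd_right (orderOf_dvd_of_pow_eq_one hk)).symm
      exact (mem_zpowers_pow_iff (g := u) (k := orderOf a)).2 hcop'.symm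
    obtain ⟨j, hj⟩ := h3
    rw [← hj]
    exact S.zpow_mem h1 j
  obtain ⟨b₀, hb₀, e3⟩ := h2
  have e4 : n * b₀ * n⁻¹ = u := e3
  rw [e1, ← e4]
  have e5 : n⁻¹ * (n * b₀ * n⁻¹ * n * c) = b₀ * c := by group
  rw [e5]
  exact mul_mem hb₀ hc

theorem fix_simple {s : K} (hs : s ∈ P.S) : s⁻¹ * a s ∈ P.B := by
  refine fix_of_cell h ha hU (P.subset hs) ?_
  have h1 : a s ∈ P.parabolic {s} := by
    rw [← map_parabolic h hU hs]
    exact Subgroup.mem_map_of_mem _ (mem_parabolic_self P s)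
  rcases mem_parabolic_singleton P hs h1 with h2 | h2
  · exact absurd ((apply_mem_B_iff h hU).1 h2) (not_mem_B P hs)
  · exact h2

/-- `a` fixes the cosets `n B` -/
theorem fix_N {n : K} (hn : n ∈ P.N) : n⁻¹ * a n ∈ P.B := by
  have hTB : ∀ t ∈ P.B ⊓ P.N, ∀ m ∈ P.N, m⁻¹ * a m ∈ P.B → (t * m)⁻¹ * a (t * m) ∈ P.B := by
    intro t ht m hm hmB
    have h1 : m⁻¹ * t * m ∈ P.B := by
      have := P.conj_mem m⁻¹ (P.N.inv_mem hm) t ht
      rwa [inv_inv] at this
    have h2 : t * m = m * (m⁻¹ * t * m) := by group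
    rw [h2, map_mul]
    have h3 : (m * (m⁻¹ * t * m))⁻¹ * (a m * a (m⁻¹ * t * m)) = (m⁻¹ * t * m)⁻¹ * (m⁻¹ * a m) * a (m⁻¹ * t * m) := by
      group
    rw [h3]
    exact mul_mem (mul_mem (inv_mem h1) hmB) (apply_mem_B h hU h1)
  have hSB : ∀ s ∈ P.S, ∀ m ∈ P.N, m⁻¹ * a m ∈ P.B → (s * m)⁻¹ * a (s * m) ∈ P.B := by
    intro s hs m hm hmB
    have hsm : s * m ∈ P.N := mul_mem (P.subset hs) hm
    -- `a s = s c`, `a m = m d`
    set c := s⁻¹ * a s with hc
    have hcB : c ∈ P.B := fix_simple h ha hU hs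
    have e1 : a s = s * c := by rw [hc]; group
    set d := m⁻¹ * a m with hd
    have e2 : a m = m * d := by rw [hd]; group
    have e3 : a (s * m) = s * c * m * d := by rw [map_mul, e1, e2]; group
    by_cases hcase : s * m ∈ DoubleCoset.doubleCoset m (P.B : Set K) P.B
    · -- `s m = u m b`
      rw [DoubleCoset.mem_doubleCoset] at hcase
      obtain ⟨b, hb, b', hb', e⟩ := hcase
      obtain ⟨u, hu, t, ht, rfl⟩ := h.cover' hb
      have h1 : m⁻¹ * t * m * b' ∈ P.B := by
        refine mul_mem ?_ hb'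
        have := P.conj_mem m⁻¹ (P.N.inv_mem hm) t ht
        rwa [inv_inv] at this
      have h2 : s * m = u * m * (m⁻¹ * t * m * b') := by rw [e]; group
      rw [h2, map_mul, map_mul, hU u hu, e2]
      have h3 : (u * m * (m⁻¹ * t * m * b'))⁻¹ * (u * (m * d) * a (m⁻¹ * t * m * b')) =
          (m⁻¹ * t * m * b')⁻¹ * d * a (m⁻¹ * t * m * b') := by group
      rw [h3]
      exact mul_mem (mul_mem (inv_mem h1) hmB) (apply_mem_B h hU h1)
    · refine fix_of_cell h ha hU hsm ?_
      rcases P.mul_mem_union s hs m hm c hcB with h4 | h4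
      · rw [DoubleCoset.mem_doubleCoset] at h4
        obtain ⟨b, hb, b', hb', e⟩ := h4
        exact ⟨b, hb, b' * d, mul_mem hb' hmB, by rw [e3, e]; group⟩
      · exfalso
        rw [DoubleCoset.mem_doubleCoset] at h4
        obtain ⟨b, hb, b', hb', e⟩ := h4
        -- `a (s m) = b m b' d`, and `a (B m B) = B m B`
        apply hcase
        rw [DoubleCoset.mem_doubleCoset]
        have hb1 : a.symm b ∈ P.B := by
          rw [← apply_mem_B_iff h hU, MulEquiv.apply_symm_apply]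
          exact hb
        have hb2 : a.symm (d⁻¹ * b' * d) ∈ P.B := by
          rw [← apply_mem_B_iff h hU, MulEquiv.apply_symm_apply]
          exact mul_mem (mul_mem (inv_mem hmB) hb') hmB
        refine ⟨a.symm b, hb1, a.symm (d⁻¹ * b' * d), hb2, ?_⟩
        apply a.injective
        rw [e3, map_mul, map_mul, MulEquiv.apply_symm_apply, MulEquiv.apply_symm_apply, e2, e]
        group
  -- induction on `N`
  have hmem : n ∈ Subgroup.closure (P.S ∪ ((P.B ⊓ P.N : Subgroup K) : Set K)) := by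
    rw [Subgroup.closure_union, Subgroup.closure_eq, P.closure_sup]
    exact hn
  have hle : Subgroup.closure (P.S ∪ ((P.B ⊓ P.N : Subgroup K) : Set K)) ≤ P.N := by
    rw [Subgroup.closure_union, Subgroup.closure_eq, P.closure_sup]
  induction hmem using Subgroup.closure_induction_left with
  | one => rw [map_one]; simp
  | mul_left x hx y hy ih =>
    have hyN : y ∈ P.N := hle hy
    rcases hx with hx | hx
    · exact hSB x hx y hyN (ih hyN)
    · exact hTB x hx y hyN (ih hyN)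
  | inv_mul_cancel x hx y hy ih =>
    have hyN : y ∈ P.N := hle hy
    rcases hx with hx | hx
    · -- `x⁻¹ = (x x)⁻¹ x`
      have h1 := hSB x hx y hyN (ih hyN)
      have h2 : (x * x)⁻¹ ∈ P.B ⊓ P.N :=
        inv_mem (mem_inf.2 ⟨P.sq_mem x hx, mul_mem (P.subset hx) (P.subset hx)⟩)
      have h3 := hTB _ h2 (x * y) (mul_mem (P.subset hx) hyN) h1
      have h4 : (x * x)⁻¹ * (x * y) = x⁻¹ * y := by group
      rwa [h4] at h3
    · exact hTB x⁻¹ (inv_mem hx) y hyN (ih hyN)

/-- `a` fixes all the cosets of `B` -/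
theorem fix_all (g : K) : g⁻¹ * a g ∈ P.B := by
  have hg : g ∈ P.parabolic P.S := by
    unfold BNPair.parabolic
    rw [sup_closure_eq_top]
    trivial
  rw [Cfsg.Agent.S0310.result P (le_refl P.S)] at hg
  obtain ⟨n, hn, hg⟩ := hg
  rw [DoubleCoset.mem_doubleCoset] at hg
  obtain ⟨b, hb, b', hb', rfl⟩ := hg
  have hnN : n ∈ P.N := (Subgroup.closure_le _).2 P.subset hn
  obtain ⟨u, hu, t, ht, rfl⟩ := h.cover' hb
  have h1 : n⁻¹ * t * n * b' ∈ P.B := by
    refine mul_mem ?_ hb'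
    have := P.conj_mem n⁻¹ (P.N.inv_mem hnN) t ht
    rwa [inv_inv] at this
  have h2 : u * t * n * b' = u * n * (n⁻¹ * t * n * b') := by group
  rw [h2, map_mul, map_mul, hU u hu]
  have h3 : (u * n * (n⁻¹ * t * n * b'))⁻¹ * (u * a n * a (n⁻¹ * t * n * b')) =
      (n⁻¹ * t * n * b')⁻¹ * (n⁻¹ * a n) * a (n⁻¹ * t * n * b') := by group
  rw [h3]
  exact mul_mem (mul_mem (inv_mem h1) (fix_N h ha hU hnN)) (apply_mem_B h hU h1)

/-- **An automorphism of order prime to `p` centralizing `U` is trivial.** -/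
theorem auto_eq_one : a = 1 := by
  ext g
  rw [MulAut.one_apply]
  have key : g⁻¹ * a g ∈ P.B.normalCore := by
    intro x
    -- `x (g⁻¹ a g) x⁻¹ ∈ B`
    have h1 := fix_all h ha hU (g * x⁻¹)
    have h2 := fix_all h ha hU x⁻¹
    have h3 : x * (g⁻¹ * a g) * x⁻¹ = ((g * x⁻¹)⁻¹ * a (g * x⁻¹)) * ((x⁻¹)⁻¹ * a x⁻¹)⁻¹ := by
      rw [map_mul]; group
    rw [h3]
    exact mul_mem h1 (inv_mem h2)
  rw [h.core, Subgroup.mem_bot, inv_mul_eq_one] at key
  exact key.symm

end auto

/-- `U` is a Sylow subgroup -/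
theorem exists_sylow [Finite K] [hp : Fact p.Prime] (h : Split P p U) : ∃ S : Sylow p K, (S : Subgroup K) = U := by
  have hB := h.normalizer_eq
  have hcop : ¬ p ∣ U.relIndex (Subgroup.normalizer (U : Set K)) := by
    obtain ⟨m, hm, hH⟩ := h.tor
    rw [hB]
    intro hd
    have hn : (U.subgroupOf P.B).Normal := by
      constructor
      intro u hu b
      rw [Subgroup.mem_subgroupOf] at hu ⊢
      exact h.norm b b.2 u hu
    have h1 : p ∣ Nat.card (P.B ⧸ U.subgroupOf P.B) := hd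
    obtain ⟨x, hx⟩ := exists_prime_orderOf_dvd_card' p h1
    induction x using QuotientGroup.induction_on with
    | H b =>
      obtain ⟨u, hu, hun⟩ := h.cover b b.2
      have h2 : u⁻¹ * (b : K) ∈ P.B := mul_mem (inv_mem (h.le hu)) b.2
      have h3 : (QuotientGroup.mk b : P.B ⧸ U.subgroupOf P.B) = QuotientGroup.mk (⟨u⁻¹ * b, h2⟩ : P.B) := by
        rw [QuotientGroup.eq, Subgroup.mem_subgroupOf]
        show (b : K)⁻¹ * (u⁻¹ * b) ∈ U
        have h4 := h.norm (b : K)⁻¹ (inv_mem b.2) _ (inv_mem hu)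
        rw [inv_inv] at h4
        rwa [← mul_assoc]
      have h4 : (QuotientGroup.mk b : P.B ⧸ U.subgroupOf P.B) ^ m = 1 := by
        rw [h3, ← QuotientGroup.mk_pow]
        have h5 : (⟨u⁻¹ * b, h2⟩ : P.B) ^ m = 1 := by
          apply Subtype.ext
          exact hH _ h2 hun
        rw [h5]
        rfl
      exact hm (hx ▸ orderOf_dvd_of_pow_eq_one h4)
  exact Schreier.BNUse.exists_sylow U h.isP hcop

/-- **`NoOut p K` for split `(B, N)`-pairs of characteristic `p`** -/
theorem noOut_of_split [Finite K] [hp : Fact p.Prime] (h : Split P p U) : H706.PB.NoOut p K := by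
  intro a ha hP
  obtain ⟨Q, hQ⟩ := hP
  obtain ⟨S, hS⟩ := exists_sylow h
  obtain ⟨g, hg⟩ := MulAction.exists_smul_eq K S Q
  -- `a' = c_g⁻¹ a c_g` centralizes `U`
  have h1 : (MulAut.conj g)⁻¹ * a * MulAut.conj g = 1 := by
    refine auto_eq_one h (a := (MulAut.conj g)⁻¹ * a * MulAut.conj g) ?_ ?_
    · have h2 : orderOf ((MulAut.conj g)⁻¹ * a * MulAut.conj g) = orderOf a := by
        have h3 : SemiconjBy (MulAut.conj g) ((MulAut.conj g)⁻¹ * a * MulAut.conj g) a := by
          unfold SemiconjBy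
          group
        exact h3.orderOf_eq
      rwa [h2]
    · intro u hu
      have h2 : g * u * g⁻¹ ∈ (Q : Subgroup K) := by
        rw [← hg]
        rw [← hS] at hu
        rw [Sylow.smul_def, Sylow.pointwise_smul_def]
        exact ⟨u, hu, rfl⟩
      have h3 := hQ _ h2
      rw [MulAut.mul_apply, MulAut.mul_apply]
      show (MulAut.conj g)⁻¹ (a (g * u * g⁻¹)) = u
      rw [h3, ← map_inv, MulAut.conj_apply]
      group
  have h2 : a = 1 := by
    have h3 : a = MulAut.conj g * ((MulAut.conj g)⁻¹ * a * MulAut.conj g) * (MulAut.conj g)⁻¹ := by group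
    rw [h3, h1]
    group
  rw [h2]
  exact one_mem _

/-- **`NoOut r S` for the simple groups of Lie type of characteristic `r`** -/
theorem noOut_own {r : ℕ} (hr : r.Prime) {S : Type*} [Group S] [Finite S] [IsSimpleGroup S]
    (h : IsLieTypeChar r S) : H706.PB.NoOut r S := by
  have : Fact r.Prime := ⟨hr⟩
  obtain ⟨P, U, -, hs, -⟩ := H716.SplitAb.hasSplitAb_of_lie hr h
  exact noOut_of_split hs

end Cfsg.Agent.H539.OC
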